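import Cfsg.Agent.H928.Ore.Frame
import Cfsg.Agent.H162.GaussExc
import Cfsg.Agent.H150.MF.Big
import Cfsg.Agent.H777.Ore.Base

/-!
The rows with one block of type `A` (S2443, S4171).

`φ : SL_n(K) →* D.group K` with image in the Levi subgroup `L_J` and `U_J ≤ φ(UT)`, `U_J⁻ ≤ φ(LT)`; `c₀ ∈ SL_n(K)` cyclic
with a simple rational eigenvalue; `φ c₀` has no fixed points on `V_J`, `V_J⁻`.

* `row_comm` : every element of `D.group K` is a commutator;
* `row_four` : if `φ c₀` is inverted by an element of square one, then every element of `D.group K` is a product of four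
  elements of square one.
-/

set_option autoImplicit false
set_option linter.unusedSectionVars false

namespace Cfsg.Agent.H224.Ore.Row

open CoxeterSystem Cfsg.Agent.ChevalleyStructure.CoxeterGeom Cfsg.Agent.Tits.Roots Cfsg.Agent.Tits.Core
  Cfsg.Agent.Nodes.Reps Cfsg.Agent.Nodes.BNOf Cfsg.Agent.Nodes.StabComb Cfsg.Agent.Nodes.RGDLib
  Cfsg.Agent.Nodes.Bruhat Cfsg.Agent.Nodes.OppDec Cfsg.Agent.Nodes.LeviDec Cfsg.Agent.Nodes.KindChev
  Cfsg.Agent.Nodes.ChevCls Cfsg.Agent.OddHalf.NI.Mult Cfsg.Agent.OddHalf.NI.ModelChev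
  Cfsg.Agent.H162.GaussDec Cfsg.Agent.H162.GaussLevi Cfsg.Agent.H162.GaussSL Cfsg.Agent.H162.GaussMain
  Cfsg.Agent.H162.GaussExc
open Cfsg.Lie Cfsg.Agent.ChevalleyStructure Cfsg.Agent.ChevalleyStructure.Elts
  Cfsg.Agent.ChevalleyStructure.RootVec Cfsg.Agent.ChevalleyStructure.NPerm
  Cfsg.Agent.ChevalleyStructure.CoxeterGeomTypes Cfsg.Agent.Nodes.RGDChev Cfsg.Agent.KFacts.RgdChevCoord
open Cfsg.Agent.H928.Ore.Frame Cfsg.Agent.H150.MF Cfsg.Agent.H777.Ore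

universe u

section NF

variable {Y : Type*} [Group Y] {V : Subgroup Y}

theorem NF.inv {c : Y} (h : NF V c) : NF V c⁻¹ := by
  intro x hx e
  refine h x hx ?_
  calc c * x * c⁻¹ = c * (c⁻¹ * x * c⁻¹⁻¹) * c⁻¹ := by rw [e]
    _ = x := by group

theorem NF.conj {c y : Y} (hy : y ∈ Subgroup.normalizer (V : Set Y)) (h : NF V c) : NF V (y * c * y⁻¹) := by
  intro x hx e
  have h1 : y⁻¹ * x * y ∈ V := by
    have := (Subgroup.mem_normalizer_iff.1 (inv_mem hy) x).1 hx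
    rwa [inv_inv] at this
  have h2 := h _ h1 (by
    calc c * (y⁻¹ * x * y) * c⁻¹ = y⁻¹ * (y * c * y⁻¹ * x * (y * c * y⁻¹)⁻¹) * y := by group
      _ = y⁻¹ * x * y := by rw [e])
  calc x = y * (y⁻¹ * x * y) * y⁻¹ := by group
    _ = 1 := by rw [h2]; group

end NF

/-- the product of two elements of square one -/
theorem two_of_inv {Y : Type*} [Group Y] {t c : Y} (ht : t * t = 1) (h : t * c * t⁻¹ = c⁻¹) :
    ∃ a b : Y, a ^ 2 = 1 ∧ b ^ 2 = 1 ∧ c = a * b := by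
  have ht' : t⁻¹ = t := inv_eq_of_mul_eq_one_left ht
  refine ⟨t, t * c, by rw [pow_two, ht], ?_, by rw [← mul_assoc, ht, one_mul]⟩
  rw [ht'] at h
  rw [pow_two]
  calc t * c * (t * c) = (t * c * t) * c := by group
    _ = 1 := by rw [h, inv_mul_cancel]

theorem two_conj {Y : Type*} [Group Y] {c : Y} (y : Y) (h : ∃ a b : Y, a ^ 2 = 1 ∧ b ^ 2 = 1 ∧ c = a * b) :
    ∃ a b : Y, a ^ 2 = 1 ∧ b ^ 2 = 1 ∧ y * c * y⁻¹ = a * b := by
  obtain ⟨a, b, ha, hb, rfl⟩ := h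
  refine ⟨y * a * y⁻¹, y * b * y⁻¹, by rw [conj_pow, ha, mul_one, mul_inv_cancel],
    by rw [conj_pow, hb, mul_one, mul_inv_cancel], by group⟩

theorem two_inv {Y : Type*} [Group Y] {c : Y} (h : ∃ a b : Y, a ^ 2 = 1 ∧ b ^ 2 = 1 ∧ c = a * b) :
    ∃ a b : Y, a ^ 2 = 1 ∧ b ^ 2 = 1 ∧ c⁻¹ = a * b := by
  obtain ⟨a, b, ha, hb, rfl⟩ := h
  exact ⟨b⁻¹, a⁻¹, by rw [inv_pow, hb, inv_one], by rw [inv_pow, ha, inv_one], by rw [mul_inv_rev]⟩

section

variable {D : ChevalleyDatum} {l : ℕ} {M : CoxeterMatrix (Fin l)} (hp : IsType D l M) {K : Type u} [Field K]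

/-- the data of the block -/
structure BlkA (J : Set (Fin l)) {n : ℕ} (φ : Matrix.SpecialLinearGroup (Fin n) K →* ↥(D.group K))
    (c₀ : Matrix.SpecialLinearGroup (Fin n) K) : Prop where
  range : ∀ A, φ A ∈ LJ M.toCoxeterSystem hp.isCartan (TT D K) (XX D l K) J
  up : UJ M.toCoxeterSystem hp.isCartan (XX D l K) J ≤ (UT n K).map φ
  lo : UNJ M.toCoxeterSystem hp.isCartan (XX D l K) J ≤ (LT n K).map φ
  nice : NiceM (c₀ : Matrix (Fin n) (Fin n) K)
  fixN : NF (VNJ M.toCoxeterSystem hp.isCartan (XX D l K) J) (φ c₀)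
  fix : NF (VJ M.toCoxeterSystem hp.isCartan (XX D l K) J) (φ c₀)

variable {hp}

theorem BlkA.hb [Finite K] (hq : 3 ≤ Nat.card K) {J : Set (Fin l)} {n : ℕ} (hn : 2 ≤ n)
    {φ : Matrix.SpecialLinearGroup (Fin n) K →* ↥(D.group K)} {c₀ : Matrix.SpecialLinearGroup (Fin n) K}
    (H : BlkA hp J φ c₀) (p : ℕ) [Fact p.Prime] [CharP K p] :
    ∀ v ∈ UNJ M.toCoxeterSystem hp.isCartan (XX D l K) J, ∀ u ∈ UJ M.toCoxeterSystem hp.isCartan (XX D l K) J,
      ∃ g h : Matrix.SpecialLinearGroup (Fin n) K, v * u = φ (g * c₀ * g⁻¹) * φ (h * c₀⁻¹ * h⁻¹) ∧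
        LP M.toCoxeterSystem hp.isCartan (TT D K) (XX D l K) J (φ (g * c₀ * g⁻¹)) (φ (h * c₀⁻¹ * h⁻¹)) := by
  have R := rgd (K := K) hp M.toCoxeterSystem p
  have := finite_W hp M.toCoxeterSystem
  intro v hv u hu
  obtain ⟨L, hL, rfl⟩ := H.lo hv
  obtain ⟨U, hU, rfl⟩ := H.up hu
  obtain ⟨g, h, e⟩ := mf_lu hq hn H.nice hL hU
  refine ⟨g, h, by rw [← map_mul, e, map_mul], H.range _, H.range _, ?_, ?_⟩
  · rw [map_mul, map_mul, map_inv]
    exact NF.conj (LJ_le_normalizer_VNJ R J (H.range g)) H.fixN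
  · rw [map_mul, map_mul, map_inv, map_inv]
    exact NF.conj (LJ_le_normalizer_VJ R J (H.range h)) (NF.inv H.fix)

/-- the core of `B` is trivial -/
theorem not_mem_core [Finite K] (hl : 0 < l) (hS : IsSimpleGroup ↥(D.group K)) (p : ℕ) [Fact p.Prime] [CharP K p]
    (hp : IsType D l M) {g : ↥(D.group K)} (hg : g ≠ 1) :
    g ∉ (RGD.B M.toCoxeterSystem hp.isCartan (TT D K) (XX D l K)).normalCore := by
  intro h
  have := finite_W hp M.toCoxeterSystem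
  have : Nonempty (Fin l) := ⟨⟨0, hl⟩⟩
  have h1 := core_le_ker (rgd (K := K) hp M.toCoxeterSystem p) (MonoidHom.id _) Function.surjective_id (fun x hx => by
    rw [MonoidHom.mem_ker] at hx
    change x = 1 at hx
    rw [hx]
    exact one_mem _) h
  exact hg h1

/-- **Commutators.** -/
theorem row_comm [Finite K] (hq : 3 ≤ Nat.card K) (hl : 0 < l) (hS : IsSimpleGroup ↥(D.group K))
    (hM : ∀ J : Finset (Fin l), J = ∅ ∨ J = Finset.univ ∨ ∃ a ∈ J, ∃ b, b ∉ J ∧ M a b ≠ 2)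
    {J : Set (Fin l)} {n : ℕ} (hn : 2 ≤ n)
    {φ : Matrix.SpecialLinearGroup (Fin n) K →* ↥(D.group K)} {c₀ : Matrix.SpecialLinearGroup (Fin n) K}
    (H : BlkA hp J φ c₀) : AllC ↥(D.group K) := by
  obtain ⟨p, hpc⟩ := CharP.exists K
  have : Fact p.Prime := ⟨(CharP.char_is_prime_or_zero K p).resolve_right (CharP.char_ne_zero_of_finite K p)⟩
  have := finite_W hp M.toCoxeterSystem
  intro g
  by_cases hg : g = 1
  · exact hg ▸ isC_one
  refine comm (rgd (K := K) hp M.toCoxeterSystem p) (G1_eq_top hp _) (coord hp)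
    (Cfsg.Agent.Nodes.ChevChart.irr_of hM) (J := J) (fun v hv u hu => ?_) (not_mem_core hl hS p hp hg)
  obtain ⟨g, h, e, hL⟩ := H.hb hq hn p v hv u hu
  refine ⟨_, _, e, hL, φ (h * g⁻¹), ?_⟩
  simp only [map_mul, map_inv]
  group

/-- **Four elements of square one.** -/
theorem row_four [Finite K] (hq : 3 ≤ Nat.card K) (hl : 0 < l) (hS : IsSimpleGroup ↥(D.group K))
    (hM : ∀ J : Finset (Fin l), J = ∅ ∨ J = Finset.univ ∨ ∃ a ∈ J, ∃ b, b ∉ J ∧ M a b ≠ 2)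
    {J : Set (Fin l)} {n : ℕ} (hn : 2 ≤ n)
    {φ : Matrix.SpecialLinearGroup (Fin n) K →* ↥(D.group K)} {c₀ : Matrix.SpecialLinearGroup (Fin n) K}
    (H : BlkA hp J φ c₀) (hr : ∃ t : ↥(D.group K), t * t = 1 ∧ t * φ c₀ * t⁻¹ = (φ c₀)⁻¹) : Inv4 ↥(D.group K) := by
  obtain ⟨p, hpc⟩ := CharP.exists K
  have : Fact p.Prime := ⟨(CharP.char_is_prime_or_zero K p).resolve_right (CharP.char_ne_zero_of_finite K p)⟩
  have := finite_W hp M.toCoxeterSystem
  obtain ⟨t, ht, htc⟩ := hr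
  have h2 := two_of_inv ht htc
  intro g
  by_cases hg : g = 1
  · exact ⟨1, 1, 1, 1, by simp, by simp, by simp, by simp, by rw [hg]; simp⟩
  obtain ⟨a, b, c, d, ha, hb, hc, hd, e⟩ := four (rgd (K := K) hp M.toCoxeterSystem p) (G1_eq_top hp _) (coord hp)
    (Cfsg.Agent.Nodes.ChevChart.irr_of hM) (J := J) (fun v hv u hu => by
      obtain ⟨g, h, e, hL⟩ := H.hb hq hn p v hv u hu
      refine ⟨_, _, e, hL, ?_, ?_⟩
      · rw [map_mul, map_mul, map_inv]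
        exact two_conj _ h2
      · rw [map_mul, map_mul, map_inv, map_inv]
        exact two_conj _ (two_inv h2)) (not_mem_core hl hS p hp hg)
  exact ⟨a, b, c, d, by rw [← pow_two, ha], by rw [← pow_two, hb], by rw [← pow_two, hc], by rw [← pow_two, hd], e⟩

end

end Cfsg.Agent.H224.Ore.Row
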