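import Mathlib

/-!
The eigenvalues of the block element (S2443, S4171; `|K| ≥ 3`).

`Zet i m ν p lam` : `p` monic irreducible of degree `m` over `K`, `(X - ν) p` splits over `K'` as `∏ (X - lam a)`, the
`lam a` are distinct, with product one, and no product over a nonempty proper subset is one.

* `exists_zet` : existence for every finite field `K` with at least three elements and `m ≥ 2`;
* `Zet.zprod` : `∏ (lam a) ^ (e a) ≠ 1` when the exponents `e a` take exactly the two values `k`, `k + 1`.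
-/

set_option autoImplicit false
set_option linter.unusedSectionVars false

namespace Cfsg.Agent.H224.Ore.Zeta

open Polynomial

/-- the data of the eigenvalues -/
structure Zet {K K' : Type*} [Field K] [Field K'] (i : K →+* K') (m : ℕ) (ν : K) (p : K[X]) (lam : Fin (m + 1) → K') :
    Prop where
  monic : p.Monic
  irr : Irreducible p
  deg : p.natDegree + 1 = m + 1
  nu : p.eval ν ≠ 0
  c0 : ((X - C ν) * p).coeff 0 = (-1) ^ (m + 1)
  split : ((X - C ν) * p).map i = ∏ a, (X - C (lam a))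
  inj : Function.Injective lam
  ne0 : ∀ a, lam a ≠ 0
  prod : ∏ a, lam a = 1
  sub : ∀ S : Finset (Fin (m + 1)), S.Nonempty → S ≠ Finset.univ → ∏ a ∈ S, lam a ≠ 1

theorem Zet.zprod {K K' : Type*} [Field K] [Field K'] {i : K →+* K'} {m : ℕ} {ν : K} {p : K[X]}
    {lam : Fin (m + 1) → K'} (H : Zet i m ν p lam) (e : Fin (m + 1) → ℤ) (k : ℤ) (h : ∀ a, e a = k ∨ e a = k + 1)
    (h0 : ∃ a, e a = k) (h1 : ∃ a, e a = k + 1) : ∏ a, lam a ^ e a ≠ 1 := by
  classical
  have e1 : ∏ a, lam a ^ e a = (∏ a, lam a) ^ k * ∏ a ∈ Finset.univ.filter (fun a => e a = k + 1), lam a := by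
    rw [Finset.prod_filter, ← Finset.prod_zpow, ← Finset.prod_mul_distrib]
    refine Finset.prod_congr rfl fun a _ => ?_
    rcases h a with h | h
    · rw [h, if_neg (by omega), mul_one]
    · rw [h, if_pos rfl, zpow_add₀ (H.ne0 a), zpow_one]
  rw [e1, H.prod, one_zpow, one_mul]
  refine H.sub _ ?_ ?_
  · obtain ⟨a, ha⟩ := h1
    exact ⟨a, by simpa using ha⟩
  · obtain ⟨a, ha⟩ := h0
    intro h2
    have : a ∈ Finset.univ.filter (fun a => e a = k + 1) := by rw [h2]; exact Finset.mem_univ a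
    rw [Finset.mem_filter] at this
    omega

/-- the sum of distinct powers -/
theorem sum_pow_lt {q m : ℕ} (hq : 3 ≤ q) (hm : 1 ≤ m) (S : Finset (Fin m)) : ∑ a ∈ S, q ^ (a : ℕ) < q ^ m - 1 := by
  have h1 : ∑ a ∈ S, q ^ (a : ℕ) ≤ ∑ a : Fin m, q ^ (a : ℕ) :=
    Finset.sum_le_sum_of_subset (Finset.subset_univ _)
  have h2 : ∑ a : Fin m, q ^ (a : ℕ) = ∑ a ∈ Finset.range m, q ^ a := Fin.sum_univ_eq_sum_range (fun a => q ^ a) m
  have h3 : (∑ a ∈ Finset.range m, q ^ a) * (q - 1) = q ^ m - 1 := by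
    have := Nat.geomSum_eq (m := q) (by omega) m
    have hd : q - 1 ∣ q ^ m - 1 := by
      have := Nat.sub_dvd_pow_sub_pow q 1 m
      rwa [one_pow] at this
    rw [this, Nat.div_mul_cancel hd]
  have h4 : 0 < ∑ a ∈ Finset.range m, q ^ a :=
    Finset.sum_pos (fun a _ => pow_pos (by omega) a) ⟨0, Finset.mem_range.2 (by omega)⟩
  have h5 : 2 ≤ q - 1 := by omega
  calc ∑ a ∈ S, q ^ (a : ℕ) ≤ ∑ a ∈ Finset.range m, q ^ a := by rw [← h2]; exact h1
    _ < (∑ a ∈ Finset.range m, q ^ a) * (q - 1) := by nlinarith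
    _ = q ^ m - 1 := h3

theorem exists_zet (K : Type*) [Field K] [Finite K] (hq : 3 ≤ Nat.card K) {m : ℕ} (hm : 2 ≤ m) :
    ∃ (K' : Type) (_ : Field K') (_ : Finite K') (i : K →+* K') (ν : K) (p : K[X]) (lam : Fin (m + 1) → K'),
      Zet i m ν p lam := by
  classical
  obtain ⟨ch, hch⟩ := CharP.exists K
  have hp : Fact ch.Prime := ⟨(CharP.char_is_prime_or_zero K ch).resolve_right (CharP.char_ne_zero_of_finite K ch)⟩
  have hm0 : NeZero m := ⟨by omega⟩
  let K' := FiniteField.Extension K ch m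
  have hK' : Nat.card K' = Nat.card K ^ m := FiniteField.natCard_extension K ch m
  obtain ⟨q, hqe⟩ : ∃ q, q = Nat.card K := ⟨_, rfl⟩
  rw [← hqe] at hK' hq
  let i : K →+* K' := algebraMap K K'
  -- a generator
  have : Fintype K' := Fintype.ofFinite K'
  obtain ⟨z, hz⟩ := IsCyclic.exists_ofOrder_eq_natCard (α := K'ˣ)
  have hcz : Nat.card K'ˣ = q ^ m - 1 := by
    rw [Nat.card_units, hK']
  rw [hcz] at hz
  obtain ⟨ζ, hζ⟩ : ∃ ζ : K', ζ = (z : K') := ⟨_, rfl⟩
  have ho : orderOf ζ = q ^ m - 1 := by rw [hζ, orderOf_units, hz]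
  have hζ0 : ζ ≠ 0 := by rw [hζ]; exact z.ne_zero
  -- the conjugates
  let μ : Fin m → K' := fun a => ζ ^ q ^ (a : ℕ)
  have hprod : ∀ S : Finset (Fin m), ∏ a ∈ S, μ a = ζ ^ ∑ a ∈ S, q ^ (a : ℕ) := fun S => Finset.prod_pow_eq_pow_sum S _ _
  have hsub : ∀ S : Finset (Fin m), S.Nonempty → ∏ a ∈ S, μ a ≠ 1 := by
    intro S hS h1
    rw [hprod, ← orderOf_dvd_iff_pow_eq_one, ho] at h1
    have h2 := sum_pow_lt hq (by omega : 1 ≤ m) S
    have h3 : 0 < ∑ a ∈ S, q ^ (a : ℕ) := Finset.sum_pos (fun a _ => pow_pos (by omega) _) hS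
    exact absurd (Nat.le_of_dvd h3 h1) (by omega)
  have hinjμ : Function.Injective μ := by
    have key : ∀ a b : Fin m, a < b → μ a ≠ μ b := by
      intro a b hab h1
      have hab' : (a : ℕ) < b := hab
      have hle : q ^ (a : ℕ) < q ^ (b : ℕ) := Nat.pow_lt_pow_right (by omega) hab'
      have h2 : ζ ^ (q ^ (b : ℕ) - q ^ (a : ℕ)) = 1 := by
        have h3 : ζ ^ (q ^ (b : ℕ) - q ^ (a : ℕ)) * ζ ^ q ^ (a : ℕ) = 1 * ζ ^ q ^ (a : ℕ) := by
          rw [← pow_add, Nat.sub_add_cancel hle.le, one_mul]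
          exact h1.symm
        exact mul_right_cancel₀ (pow_ne_zero _ hζ0) h3
      rw [← orderOf_dvd_iff_pow_eq_one, ho] at h2
      have h3 := Nat.le_of_dvd (by omega) h2
      have h4 : q ^ (b : ℕ) ≤ q ^ (m - 1) := Nat.pow_le_pow_right (by omega) (by have := b.2; omega)
      have h5 : q ^ m = q * q ^ (m - 1) := by
        rw [← pow_succ', Nat.sub_add_cancel (by omega : 1 ≤ m)]
      have h6 : 1 ≤ q ^ (m - 1) := Nat.one_le_pow _ _ (by omega)
      have h7 : 1 ≤ q ^ (a : ℕ) := Nat.one_le_pow _ _ (by omega)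
      have h8 : 3 * q ^ (m - 1) ≤ q * q ^ (m - 1) := Nat.mul_le_mul_right _ hq
      omega
    intro a b h1
    by_contra hab
    rcases lt_or_gt_of_ne hab with h | h
    · exact key a b h h1
    · exact key b a h h1.symm
  -- the minimal polynomial
  have : Module.Finite K K' := inferInstance
  have hint : IsIntegral K ζ := Algebra.IsIntegral.isIntegral ζ
  obtain ⟨p, hpe⟩ : ∃ p, p = minpoly K ζ := ⟨_, rfl⟩
  have hpm : p.Monic := hpe ▸ minpoly.monic hint
  have hpi : Irreducible p := hpe ▸ minpoly.irreducible hint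
  have hdeg : p.natDegree ≤ m := by
    rw [hpe]
    have := minpoly.natDegree_le (A := K) ζ
    rwa [FiniteField.finrank_extension K ch m] at this
  have hfro : ∀ x : K, i x ^ q = i x := by
    intro x
    rw [← map_pow]
    congr 1
    have : Fintype K := Fintype.ofFinite K
    have h1 := FiniteField.pow_card x
    rwa [← Nat.card_eq_fintype_card, ← hqe] at h1
  -- `q` is a power of the characteristic: Frobenius is additive
  have hchq : ∃ n, q = ch ^ n := by
    have : Fintype K := Fintype.ofFinite K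
    obtain ⟨n, -, hn⟩ := FiniteField.card K ch
    exact ⟨n, by rw [hqe, Nat.card_eq_fintype_card, hn]⟩
  have hcK' : CharP K' ch := charP_of_injective_algebraMap (algebraMap K K').injective ch
  have hroot : ∀ k : ℕ, (p.map i).IsRoot (ζ ^ q ^ k) := by
    intro k
    induction k with
    | zero =>
      rw [pow_zero, pow_one, IsRoot, eval_map, hpe]
      exact minpoly.aeval K ζ
    | succ k ih =>
      obtain ⟨n, hn⟩ := hchq
      have h1 : (p.map i).map (iterateFrobenius K' ch n) = p.map i := by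
        rw [Polynomial.map_map]
        congr 1
        refine RingHom.ext fun x => ?_
        rw [RingHom.comp_apply, iterateFrobenius_def, ← hn, hfro]
      rw [pow_succ, pow_mul, IsRoot, ← h1]
      have h2 : (ζ ^ q ^ k) ^ q = iterateFrobenius K' ch n (ζ ^ q ^ k) := by rw [iterateFrobenius_def, ← hn]
      rw [h2, eval_map_apply]
      rw [IsRoot] at ih
      rw [ih, map_zero]
  have hpmap : p.map i = ∏ a, (X - C (μ a)) := by
    have h1 : (∏ a : Fin m, (X - C (μ a))) ∣ p.map i := by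
      refine Finset.prod_dvd_of_coprime ?_ fun a _ => dvd_iff_isRoot.2 (hroot a)
      intro a _ b _ hab
      exact isCoprime_X_sub_C_of_isUnit_sub (sub_ne_zero.2 (fun h => hab (hinjμ h))).isUnit
    have h2 : (∏ a : Fin m, (X - C (μ a))).Monic := monic_prod_of_monic _ _ fun a _ => monic_X_sub_C _
    have h3 : (∏ a : Fin m, (X - C (μ a))).natDegree = m := by
      rw [natDegree_prod_of_monic _ _ fun a _ => monic_X_sub_C _]
      simp
    refine (eq_of_monic_of_dvd_of_natDegree_le h2 (hpm.map i) h1 ?_)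
    rw [h3, natDegree_map]
    exact hdeg
  have hpdeg : p.natDegree = m := by
    have h1 := congrArg natDegree hpmap
    rw [natDegree_map, natDegree_prod_of_monic _ _ fun a _ => monic_X_sub_C _] at h1
    simpa using h1
  have hp0 : i (p.coeff 0) = (-1) ^ m * ∏ a, μ a := by
    have h1 : (p.map i).coeff 0 = i (p.coeff 0) := coeff_map i 0
    rw [← h1, hpmap, coeff_zero_eq_eval_zero, eval_prod]
    simp only [eval_sub, eval_X, eval_C, zero_sub]
    have h2 : ∀ a : Fin m, -μ a = (-1) * μ a := fun a => neg_eq_neg_one_mul _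
    rw [Finset.prod_congr rfl fun a _ => h2 a, Finset.prod_mul_distrib, Finset.prod_const, Finset.card_univ,
      Fintype.card_fin]
  have hN0 : ∏ a, μ a ≠ 0 := Finset.prod_ne_zero_iff.2 fun a _ => pow_ne_zero _ hζ0
  have hsg : ((-1 : K') ^ m) * ((-1 : K') ^ m) = 1 := by rw [← pow_add, ← two_mul, pow_mul]; simp
  have hp0' : p.coeff 0 ≠ 0 := by
    intro h
    rw [h, map_zero] at hp0
    exact (mul_ne_zero (pow_ne_zero _ (by simp)) hN0) hp0.symm
  obtain ⟨ν, hν⟩ : ∃ ν : K, ν = ((-1) ^ m * p.coeff 0)⁻¹ := ⟨_, rfl⟩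
  have hiν : i ν = (∏ a, μ a)⁻¹ := by
    rw [hν, map_inv₀, map_mul, map_pow, map_neg, map_one, hp0, ← mul_assoc, hsg, one_mul]
  have hpν : p.eval ν ≠ 0 := by
    intro h
    exact hpi.not_isRoot_of_natDegree_ne_one (by omega) h
  have hiν0 : i ν ≠ 0 := by rw [hiν]; exact inv_ne_zero hN0
  have hne : ∀ a : Fin m, i ν ≠ μ a := by
    intro a h
    apply hpν
    apply i.injective
    rw [map_zero, ← eval_map_apply, h]
    exact hroot a
  let lam : Fin (m + 1) → K' := Fin.cons (i ν) μ
  have hl0 : lam 0 = i ν := rfl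
  have hls : ∀ a : Fin m, lam a.succ = μ a := fun a => rfl
  have hpr : ∏ a, lam a = 1 := by
    rw [Fin.prod_univ_succ, hl0]
    simp only [hls]
    rw [hiν, inv_mul_cancel₀ hN0]
  refine ⟨K', inferInstance, inferInstance, i, ν, p, lam, hpm, hpi, by rw [hpdeg], hpν, ?_, ?_, ?_, ?_, hpr, ?_⟩
  · rw [mul_coeff_zero, coeff_sub, coeff_X_zero, coeff_C_zero, zero_sub, hν]
    have h1 : ((-1 : K) ^ m) * ((-1 : K) ^ m) = 1 := by rw [← pow_add, ← two_mul, pow_mul]; simp
    have h2 : ((-1 : K) ^ m) ≠ 0 := pow_ne_zero _ (by simp)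
    field_simp
    rw [pow_succ]
    linear_combination (1 : K) * h1
  · rw [Polynomial.map_mul, Polynomial.map_sub, map_X, map_C, hpmap, Fin.prod_univ_succ, hl0]
    simp only [hls]
  · intro a b
    refine Fin.cases ?_ (fun a => ?_) a <;> refine Fin.cases ?_ (fun b => ?_) b
    · intro _; rfl
    · intro h; exact absurd h (hne b)
    · intro h; exact absurd h.symm (hne a)
    · intro h; exact congrArg Fin.succ (hinjμ h)
  · intro a
    refine Fin.cases ?_ (fun a => ?_) a
    · exact hiν0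
    · exact pow_ne_zero _ hζ0
  · have key : ∀ S : Finset (Fin (m + 1)), 0 ∉ S → S.Nonempty → ∏ a ∈ S, lam a ≠ 1 := by
      intro S h0 hS h1
      have h2 : S = (Finset.univ.filter fun a : Fin m => a.succ ∈ S).map (Fin.succEmb m) := by
        ext b
        rw [Finset.mem_map]
        constructor
        · intro hb
          obtain ⟨c, rfl⟩ := Fin.exists_succ_eq.2 (show b ≠ 0 from fun h => h0 (h ▸ hb))
          exact ⟨c, Finset.mem_filter.2 ⟨Finset.mem_univ _, hb⟩, rfl⟩
        · rintro ⟨c, hc, rfl⟩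
          exact (Finset.mem_filter.1 hc).2
      obtain ⟨T, hT⟩ : ∃ T, T = Finset.univ.filter fun a : Fin m => a.succ ∈ S := ⟨_, rfl⟩
      rw [← hT] at h2
      rw [h2, Finset.prod_map] at h1
      refine hsub T ?_ h1
      rw [h2] at hS
      exact (Finset.map_nonempty).1 hS
    intro S hS hSu h1
    by_cases h0 : (0 : Fin (m + 1)) ∈ S
    · -- the complement
      have h2 : ∏ a ∈ Sᶜ, lam a = 1 := by
        have h3 := Finset.prod_mul_prod_compl S lam
        rw [h1, one_mul, hpr] at h3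
        exact h3
      have h3 : (Sᶜ).Nonempty := by
        rw [Finset.nonempty_iff_ne_empty, Ne, Finset.compl_eq_empty_iff]
        exact hSu
      exact key _ (by simpa using h0) h3 h2
    · exact key S h0 hS h1

end Cfsg.Agent.H224.Ore.Zeta
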